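import Mathlib

/-!
# A maximal linearly independent family in a finite torsion-free algebra (helper5)
-/
set_option autoImplicit false
universe u

namespace Groth.Agent.Lib.Helper5.GenIso

/-- in a finite algebra `B` over a Noetherian domain `A` with `A → B` injective there is a finite
nonempty `A`-linearly independent family `e` such that every element of `B` has a nonzero
`A`-multiple in the span of `e` -/
theorem exists_indep_family (A B : Type u) [CommRing A] [CommRing B] [IsDomain A]
    [IsNoetherianRing A] [Algebra A B] [Module.Finite A B]
    (hinj : Function.Injective (algebraMap A B)) :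
    ∃ (r : ℕ) (e : Fin r → B), 0 < r ∧ LinearIndependent A e ∧
      ∀ b : B, ∃ a : A, a ≠ 0 ∧ a • b ∈ Submodule.span A (Set.range e) := by
  classical
  obtain ⟨s, hs, hmax⟩ := exists_maximal_linearIndepOn A (id : B → B)
  haveI : IsNoetherian A B := isNoetherian_of_isNoetherianRing_of_finite A B
  have hli : LinearIndependent A (Subtype.val : s → B) := hs
  have hfin : s.Finite := hli.set_finite_of_isNoetherian
  haveI : Fintype s := hfin.fintype
  let eq : Fin (Fintype.card s) ≃ s := (Fintype.equivFin s).symm
  refine ⟨Fintype.card s, fun i => (eq i : B), ?_, ?_, ?_⟩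
  · -- nonempty
    rw [Fintype.card_pos_iff]
    by_contra hne
    rw [not_nonempty_iff] at hne
    have hs0 : s = ∅ := Set.isEmpty_coe_sort.1 hne
    have h1 : (1 : B) ∉ s := by rw [hs0]; exact Set.notMem_empty _
    obtain ⟨a, ha, hmem⟩ := hmax 1 h1
    rw [hs0, Set.image_empty, Submodule.span_empty, Submodule.mem_bot] at hmem
    apply ha
    apply hinj
    rw [map_zero, Algebra.algebraMap_eq_smul_one]
    exact hmem
  · exact hli.comp eq eq.injective
  · intro b
    have hrange : Set.range (fun i => (eq i : B)) = s := by
      ext y
      constructor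
      · rintro ⟨i, rfl⟩
        exact (eq i).2
      · intro hy
        exact ⟨eq.symm ⟨y, hy⟩, by simp⟩
    rw [hrange]
    by_cases hb : b ∈ s
    · exact ⟨1, one_ne_zero, by rw [one_smul]; exact Submodule.subset_span hb⟩
    · obtain ⟨a, ha, hmem⟩ := hmax b hb
      refine ⟨a, ha, ?_⟩
      simpa using hmem

end Groth.Agent.Lib.Helper5.GenIso
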