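import Mathlib
import Groth.Prelude.Def_Coh
import Groth.Agent.Lib.Helper1.QcLoc
import Groth.Agent.Lib.Helper1.QcCech
import Groth.Agent.Lib.Helper1.QcExt

/-!
# A criterion for a morphism of quasi-coherent modules to be an isomorphism on a stalk (helper5)
-/
set_option autoImplicit false
set_option linter.unusedSectionVars false
set_option linter.unusedVariables false
set_option linter.style.haveILetI false
universe u
open CategoryTheory CategoryTheory.Limits Opposite TopologicalSpace AlgebraicGeometry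

namespace Groth.Agent.Lib.Helper5.GenIso

open Groth.Agent.Helper1 Groth.Agent.Helper1.QcCech

variable {Y : Scheme.{u}}

/-- a function on `V` restricts to a unit on every open contained in its basic open -/
theorem isUnit_resR {V : Y.Opens} (r : Γ(Y, V)) {D : Y.Opens} (hD : D ≤ Y.basicOpen r) :
    IsUnit (resR (hD.trans (Y.basicOpen_le r)) r) := by
  have h1 : IsUnit (resR (Y.basicOpen_le r) r) := Y.toRingedSpace.isUnit_res_basicOpen r
  have h2 : resR (hD.trans (Y.basicOpen_le r)) r = resR hD (resR (Y.basicOpen_le r) r) := by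
    rw [resR_resR]
  rw [h2]
  exact h1.map _

/-- germs of restrictions -/
theorem germ_res (N : Y.Modules) {O O' : Y.Opens} (h : O' ≤ O) (x : Y) (hx : x ∈ O')
    (s : Γ(N, O)) :
    N.presheaf.germ O' x hx (res N h s) = N.presheaf.germ O x (h hx) s :=
  TopCat.Presheaf.germ_res_apply N.presheaf (homOfLE h) x hx s

/-- **stalk criterion**: a morphism of quasi-coherent modules which, over an affine open `V`
containing `x`, is injective and surjective up to multiplication by functions not vanishing at `x`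
induces an isomorphism on stalks at `x` -/
theorem isIso_stalk_map {N₁ N₂ : Y.Modules} [N₁.IsQuasicoherent] [N₂.IsQuasicoherent]
    (φ : N₁ ⟶ N₂) {V : Y.Opens} (hV : IsAffineOpen V) (x : Y) (hx : x ∈ V)
    (hinj : ∀ n : Γ(N₁, V), φ.app V n = 0 → ∃ g : Γ(Y, V), x ∈ Y.basicOpen g ∧ g • n = 0)
    (hsurj : ∀ m : Γ(N₂, V), ∃ (g : Γ(Y, V)) (n : Γ(N₁, V)),
      x ∈ Y.basicOpen g ∧ φ.app V n = g • m) :
    IsIso ((TopCat.Presheaf.stalkFunctor AddCommGrpCat.{u} x).map
      ((SheafOfModules.toSheaf Y.ringCatSheaf).map φ).hom) := by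
  change IsIso ((TopCat.Presheaf.stalkFunctor AddCommGrpCat.{u} x).map φ.mapPresheaf)
  rw [ConcreteCategory.isIso_iff_bijective]
  -- shrinking to basic opens
  have hshrink : ∀ W : Y.Opens, x ∈ W → ∃ g : Γ(Y, V), Y.basicOpen g ≤ W ∧ x ∈ Y.basicOpen g := by
    intro W hxW
    obtain ⟨g, hg1, hg2⟩ := hV.exists_basicOpen_le (V := W) ⟨x, hxW⟩ hx
    exact ⟨g, hg1, hg2⟩
  constructor
  · -- injectivity
    rw [injective_iff_map_eq_zero]
    intro a ha
    obtain ⟨W, hxW, s, rfl⟩ := TopCat.Presheaf.exists_germ_eq N₁.presheaf a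
    obtain ⟨g, hgW, hxg⟩ := hshrink W hxW
    set s' : Γ(N₁, Y.basicOpen g) := res N₁ hgW s with hs'
    have hgerm : N₁.presheaf.germ W x hxW s = N₁.presheaf.germ (Y.basicOpen g) x hxg s' :=
      (germ_res N₁ hgW x hxg s).symm
    rw [hgerm] at ha ⊢
    rw [TopCat.Presheaf.stalkFunctor_map_germ_apply] at ha
    have h0 : N₂.presheaf.germ (Y.basicOpen g) x hxg (φ.app (Y.basicOpen g) s') =
        N₂.presheaf.germ (Y.basicOpen g) x hxg 0 := by
      rw [map_zero]; exact ha
    obtain ⟨W', hxW', i1, i2, hW'⟩ :=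
      TopCat.Presheaf.germ_eq N₂.presheaf x hxg hxg _ _ h0
    rw [map_zero] at hW'
    obtain ⟨g', hg'W', hxg'⟩ := hshrink W' hxW'
    have hg'g : Y.basicOpen g' ≤ Y.basicOpen g := hg'W'.trans i1.le
    set s'' : Γ(N₁, Y.basicOpen g') := res N₁ hg'g s' with hs''
    have hφs'' : φ.app (Y.basicOpen g') s'' = 0 := by
      rw [hs'', QcExt.app_res]
      have : res N₂ hg'g (φ.app (Y.basicOpen g) s') =
          res N₂ hg'W' (res N₂ i1.le (φ.app (Y.basicOpen g) s')) := by rw [res_res]
      rw [this]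
      have h1 : res N₂ i1.le (φ.app (Y.basicOpen g) s') = 0 := hW'
      rw [h1, map_zero]
    obtain ⟨k, t, ht⟩ := QcLoc.exists_extend hV N₁ g' s''
    have ht' : res N₁ (Y.basicOpen_le g') t = (resR (Y.basicOpen_le g') g') ^ k • s'' := ht
    have hφt : res N₂ (Y.basicOpen_le g') (φ.app V t) = 0 := by
      rw [← QcExt.app_res, ht', Scheme.Modules.Hom.app_smul, hφs'', smul_zero]
    obtain ⟨l, hl⟩ := QcLoc.exists_kill hV N₂ g' (φ.app V t) hφt
    have hφ2 : φ.app V (g' ^ l • t) = 0 := by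
      rw [Scheme.Modules.Hom.app_smul, hl]
    obtain ⟨h, hxh, hh⟩ := hinj _ hφ2
    -- the open `D(g' h)`
    have hD1 : Y.basicOpen (g' * h) ≤ Y.basicOpen g' := by
      rw [Scheme.basicOpen_mul]; exact inf_le_left
    have hD2 : Y.basicOpen (g' * h) ≤ Y.basicOpen h := by
      rw [Scheme.basicOpen_mul]; exact inf_le_right
    have hxD : x ∈ Y.basicOpen (g' * h) := by
      rw [Scheme.basicOpen_mul]; exact ⟨hxg', hxh⟩
    set D := Y.basicOpen (g' * h) with hDdef
    have hDV : D ≤ V := hD1.trans (Y.basicOpen_le g')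
    have hu1 : IsUnit (resR hDV g') := isUnit_resR g' hD1
    have hu2 : IsUnit (resR hDV h) := isUnit_resR h hD2
    -- restrict the relation `h • g'^l • t = 0` to `D`
    have hrel : resR hDV h • (resR hDV g') ^ l • res N₁ hDV t = 0 := by
      have := congrArg (res N₁ hDV) hh
      rw [res_smul, res_smul, map_pow, map_zero] at this
      exact this
    have htD : res N₁ hDV t = 0 := by
      have h1 := (hu2.smul_eq_zero).1 hrel
      exact ((hu1.pow l).smul_eq_zero).1 h1
    have hsD : res N₁ hD1 s'' = 0 := by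
      have h1 : res N₁ hDV t = res N₁ hD1 (res N₁ (Y.basicOpen_le g') t) := by rw [res_res]
      rw [h1, ht', res_smul, map_pow, resR_resR] at htD
      exact ((hu1.pow k).smul_eq_zero).1 htD
    have e1 : N₁.presheaf.germ D x hxD (res N₁ hD1 s'') =
        N₁.presheaf.germ (Y.basicOpen g') x hxg' s'' := germ_res N₁ hD1 x hxD s''
    have e2 : N₁.presheaf.germ (Y.basicOpen g') x hxg' s'' =
        N₁.presheaf.germ (Y.basicOpen g) x hxg s' := germ_res N₁ hg'g x hxg' s'
    rw [← e2, ← e1, hsD]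
    exact map_zero _
  · -- surjectivity
    intro b
    obtain ⟨W, hxW, s, rfl⟩ := TopCat.Presheaf.exists_germ_eq N₂.presheaf b
    obtain ⟨g, hgW, hxg⟩ := hshrink W hxW
    set s' : Γ(N₂, Y.basicOpen g) := res N₂ hgW s with hs'
    obtain ⟨k, t, ht⟩ := QcLoc.exists_extend hV N₂ g s'
    have ht' : res N₂ (Y.basicOpen_le g) t = (resR (Y.basicOpen_le g) g) ^ k • s' := ht
    obtain ⟨h, n, hxh, hn⟩ := hsurj t
    have hD1 : Y.basicOpen (g * h) ≤ Y.basicOpen g := by
      rw [Scheme.basicOpen_mul]; exact inf_le_left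
    have hD2 : Y.basicOpen (g * h) ≤ Y.basicOpen h := by
      rw [Scheme.basicOpen_mul]; exact inf_le_right
    have hxD : x ∈ Y.basicOpen (g * h) := by
      rw [Scheme.basicOpen_mul]; exact ⟨hxg, hxh⟩
    set D := Y.basicOpen (g * h) with hDdef
    have hDV : D ≤ V := hD1.trans (Y.basicOpen_le g)
    have hu1 : IsUnit (resR hDV g) := isUnit_resR g hD1
    have hu2 : IsUnit (resR hDV h) := isUnit_resR h hD2
    have hu : IsUnit (resR hDV h * (resR hDV g) ^ k) := hu2.mul (hu1.pow k)
    obtain ⟨u, hu'⟩ := hu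
    have hrel : φ.app D (res N₁ hDV n) = (u : Γ(Y, D)) • res N₂ hD1 s' := by
      rw [QcExt.app_res, hn, res_smul]
      have h1 : res N₂ hDV t = res N₂ hD1 (res N₂ (Y.basicOpen_le g) t) := by rw [res_res]
      rw [h1, ht', res_smul, map_pow, resR_resR, smul_smul, hu']
    refine ⟨N₁.presheaf.germ D x hxD ((↑u⁻¹ : Γ(Y, D)) • res N₁ hDV n), ?_⟩
    rw [TopCat.Presheaf.stalkFunctor_map_germ_apply]
    have h2 : φ.mapPresheaf.app (op D) ((↑u⁻¹ : Γ(Y, D)) • res N₁ hDV n) = res N₂ hD1 s' := by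
      show φ.app D ((↑u⁻¹ : Γ(Y, D)) • res N₁ hDV n) = _
      rw [Scheme.Modules.Hom.app_smul, hrel, smul_smul, Units.inv_mul, one_smul]
    have e1 : N₂.presheaf.germ D x hxD (res N₂ hD1 s') =
        N₂.presheaf.germ (Y.basicOpen g) x hxg s' := germ_res N₂ hD1 x hxD s'
    have e2 : N₂.presheaf.germ (Y.basicOpen g) x hxg s' =
        N₂.presheaf.germ W x hxW s := germ_res N₂ hgW x hxg s
    rw [h2, e1, e2]

end Groth.Agent.Lib.Helper5.GenIso
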