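import Mathlib
import Groth.Prelude.Def_Coh
import Groth.Prelude.Def_CohB1
import Groth.Agent.Lib.Helper1.FtSupp
import Groth.Agent.Lib.Helper1.CohAbel
import Groth.Agent.Lib.Helper1.TwistSec
import Groth.Agent.Lib.Helper5.Perf.LocLift
import Groth.Agent.Lib.Helper5.Perf.LocalCoh
import Groth.Agent.Lib.Helper5.GenIso.Stalk

/-!
# A map of coherent modules which is bijective on the stalks at `x` is an isomorphism near `x`
(helper5)
-/
set_option autoImplicit false
set_option linter.unusedSectionVars false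
set_option linter.unusedVariables false
universe u
open CategoryTheory CategoryTheory.Limits Opposite TopologicalSpace AlgebraicGeometry
open Groth.Agent.Helper1 Groth.Agent.Helper1.QcCech

namespace Groth.Agent.Lib.Helper5.GenIso

variable {Y : Scheme.{u}}

theorem subsingleton_of_forall_eq_zero {A : Type*} [Zero A] (h : ∀ z : A, z = 0) : Subsingleton A :=
  ⟨fun a b => (h a).trans (h b).symm⟩

/-- the stalk at `x` of the kernel vanishes if the stalk map is injective -/
theorem subsingleton_stalk_kernel {N₁ N₂ : Y.Modules} (α : N₁ ⟶ N₂) (x : Y)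
    (hinj : Function.Injective
      ((TopCat.Presheaf.stalkFunctor AddCommGrpCat.{u} x).map α.mapPresheaf)) :
    Subsingleton ((kernel α).presheaf.stalk x) := by
  apply subsingleton_of_forall_eq_zero
  intro z
  obtain ⟨W, hxW, k, rfl⟩ := TopCat.Presheaf.exists_germ_eq (kernel α).presheaf z
  have hn : α.app W ((kernel.ι α).app W k) = 0 := by
    have := congrArg (fun φ => Scheme.Modules.Hom.app φ W k) (kernel.condition α)
    exact this
  have hg : N₁.presheaf.germ W x hxW ((kernel.ι α).app W k) = 0 := by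
    apply hinj
    have e1 := TopCat.Presheaf.stalkFunctor_map_germ_apply W x hxW α.mapPresheaf
      ((kernel.ι α).app W k)
    refine e1.trans ?_
    have e2 : N₂.presheaf.germ W x hxW (α.app W ((kernel.ι α).app W k)) = 0 := by
      rw [hn, map_zero]
    exact e2.trans (map_zero _).symm
  obtain ⟨W', hxW', i1, i2, hW'⟩ := TopCat.Presheaf.germ_eq N₁.presheaf x hxW hxW
    ((kernel.ι α).app W k) 0 (by rw [hg, map_zero])
  rw [map_zero] at hW'
  have hk : res (kernel α) i1.le k = 0 := by
    apply FtLocal.app_injective_of_mono (kernel.ι α) W'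
    rw [map_zero, QcExt.app_res]
    exact hW'
  rw [← germ_res (kernel α) i1.le x hxW' k, hk, map_zero]

/-- the stalk at `x` of the cokernel vanishes if the stalk map is surjective -/
theorem subsingleton_stalk_cokernel {N₁ N₂ : Y.Modules} (α : N₁ ⟶ N₂) (x : Y)
    (hsurj : Function.Surjective
      ((TopCat.Presheaf.stalkFunctor AddCommGrpCat.{u} x).map α.mapPresheaf)) :
    Subsingleton ((cokernel α).presheaf.stalk x) := by
  apply subsingleton_of_forall_eq_zero
  intro z
  obtain ⟨W, hxW, c, rfl⟩ := TopCat.Presheaf.exists_germ_eq (cokernel α).presheaf z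
  obtain ⟨W₁, hW₁, m, hxW₁, hm⟩ :=
    Groth.Agent.Lib.Helper5.LocLift.exists_local_lift (cokernel.π α) W c x hxW
  obtain ⟨a, ha⟩ := hsurj (N₂.presheaf.germ W₁ x hxW₁ m)
  obtain ⟨W₂, hxW₂, n, rfl⟩ := TopCat.Presheaf.exists_germ_eq N₁.presheaf a
  have ha' : N₂.presheaf.germ W₂ x hxW₂ (α.app W₂ n) = N₂.presheaf.germ W₁ x hxW₁ m :=
    (TopCat.Presheaf.stalkFunctor_map_germ_apply W₂ x hxW₂ α.mapPresheaf n).symm.trans ha
  obtain ⟨W₃, hxW₃, i1, i2, h3⟩ := TopCat.Presheaf.germ_eq N₂.presheaf x hxW₂ hxW₁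
    (α.app W₂ n) m ha'
  have h3' : res N₂ i1.le (α.app W₂ n) = res N₂ i2.le m := h3
  have hzero : ∀ n' : Γ(N₁, W₃), (cokernel.π α).app W₃ (α.app W₃ n') = 0 := by
    intro n'
    have := congrArg (fun φ => Scheme.Modules.Hom.app φ W₃ n') (cokernel.condition α)
    exact this
  have hc : res (cokernel α) (i2.le.trans hW₁) c = 0 := by
    have e1 : res (cokernel α) (i2.le.trans hW₁) c =
        res (cokernel α) i2.le (res (cokernel α) hW₁ c) := (res_res _ _ _ _).symm
    have e2 : res (cokernel α) hW₁ c = (cokernel.π α).app W₁ m := hm.symm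
    rw [e1, e2, ← QcExt.app_res, ← h3', ← QcExt.app_res]
    exact hzero _
  rw [← germ_res (cokernel α) (i2.le.trans hW₁) x hxW₃ c, hc, map_zero]

/-- a module all of whose stalks over `V` vanish restricts to zero on `V` -/
theorem isZero_restrict_of_stalks (K : Y.Modules) (V : Y.Opens)
    (h : ∀ y ∈ V, Subsingleton (K.presheaf.stalk y)) :
    IsZero ((Scheme.Modules.restrictFunctor V.ι).obj K) := by
  apply Groth.Agent.Lib.Helper5.LocalCoh.isZero_of_forall_subsingleton
  intro W
  have hle : V.ι ''ᵁ W ≤ V := by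
    rintro _ ⟨w, -, rfl⟩
    exact w.2
  suffices hs : ∀ s : Γ(K, V.ι ''ᵁ W), s = 0 from
    ⟨fun a b => (hs a).trans (hs b).symm⟩
  intro s
  apply TwistSec.eq_of_locally K
  intro y hy
  haveI := h y (hle hy)
  have hg : K.presheaf.germ (V.ι ''ᵁ W) y hy s = K.presheaf.germ (V.ι ''ᵁ W) y hy 0 :=
    Subsingleton.elim _ _
  obtain ⟨W', hyW', i1, i2, hW'⟩ := TopCat.Presheaf.germ_eq K.presheaf y hy hy s 0 hg
  exact ⟨W', i1.le, hyW', hW'⟩

/-- **a morphism of coherent modules which is bijective on stalks at `x` is an isomorphism over an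
open neighbourhood of `x`** -/
theorem exists_open_isIso [IsLocallyNoetherian Y] {N₁ N₂ : Y.Modules} (h₁ : Coh.IsCoh N₁)
    (h₂ : Coh.IsCoh N₂) (α : N₁ ⟶ N₂) (x : Y)
    (h : IsIso ((TopCat.Presheaf.stalkFunctor AddCommGrpCat.{u} x).map
      ((SheafOfModules.toSheaf Y.ringCatSheaf).map α).hom)) :
    ∃ V : Y.Opens, x ∈ V ∧ IsIso ((Scheme.Modules.restrictFunctor V.ι).map α) := by
  change IsIso ((TopCat.Presheaf.stalkFunctor AddCommGrpCat.{u} x).map α.mapPresheaf) at h
  have hb := (ConcreteCategory.isIso_iff_bijective _).1 h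
  have hK := subsingleton_stalk_kernel α x hb.1
  have hC := subsingleton_stalk_cokernel α x hb.2
  have hKcl := FtGen.isClosed_support (kernel α) (FtLocal.isCoh_kernel h₁ h₂ α).2
  have hCcl := FtGen.isClosed_support (cokernel α) (FtLocal.isCoh_cokernel h₁ h₂ α).2
  let V : Y.Opens := ⟨(CohB1.support (kernel α))ᶜ ∩ (CohB1.support (cokernel α))ᶜ,
    hKcl.isOpen_compl.inter hCcl.isOpen_compl⟩
  have hxV : x ∈ V := ⟨not_not.2 hK, not_not.2 hC⟩
  refine ⟨V, hxV, ?_⟩
  have hKz : IsZero ((Scheme.Modules.restrictFunctor V.ι).obj (kernel α)) :=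
    isZero_restrict_of_stalks (kernel α) V (fun y hy => not_not.1 hy.1)
  have hCz : IsZero ((Scheme.Modules.restrictFunctor V.ι).obj (cokernel α)) :=
    isZero_restrict_of_stalks (cokernel α) V (fun y hy => not_not.1 hy.2)
  have hKz' : IsZero (kernel ((Scheme.Modules.restrictFunctor V.ι).map α)) :=
    hKz.of_iso (PreservesKernel.iso (Scheme.Modules.restrictFunctor V.ι) α).symm
  have hCz' : IsZero (cokernel ((Scheme.Modules.restrictFunctor V.ι).map α)) :=
    hCz.of_iso (PreservesCokernel.iso (Scheme.Modules.restrictFunctor V.ι) α).symm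
  haveI : Mono ((Scheme.Modules.restrictFunctor V.ι).map α) :=
    Preadditive.mono_of_kernel_zero (hKz'.eq_of_src _ _)
  haveI : Epi ((Scheme.Modules.restrictFunctor V.ι).map α) :=
    Preadditive.epi_of_cokernel_zero (hCz'.eq_of_tgt _ _)
  exact isIso_of_mono_of_epi _

end Groth.Agent.Lib.Helper5.GenIso
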