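import Mathlib
import Groth.Prelude.Def_Coh
import Groth.Agent.Lib.Helper1.FinSigma
import Groth.Agent.Lib.Helper1.GlobGen

/-!
# Sections of a finite free module and of morphisms out of it (helper5)
-/
set_option autoImplicit false
set_option backward.isDefEq.respectTransparency.types false
set_option linter.unusedSectionVars false
set_option linter.unusedVariables false
set_option linter.style.haveILetI false
universe u
open CategoryTheory CategoryTheory.Limits Opposite TopologicalSpace AlgebraicGeometry

namespace Groth.Agent.Lib.Helper5.GenIso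

open Groth.Agent.Helper1 Groth.Agent.Helper1.QcCech

variable (Y : Scheme.{u}) (I : Type u) [Fintype I] [DecidableEq I]

/-- the structure sheaf as a module -/
noncomputable abbrev OY : Y.Modules := SheafOfModules.unit Y.ringCatSheaf

/-- the free module -/
noncomputable abbrev FreeI : Y.Modules := SheafOfModules.free I

variable {Y I}

/-- the coprojections of the free module -/
noncomputable abbrev ιF (i : I) : OY Y ⟶ FreeI Y I := Sigma.ι (fun _ : I => OY Y) i

/-- the projections of the finite free module -/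
noncomputable def qF (i : I) : FreeI Y I ⟶ OY Y :=
  Limits.Sigma.desc (f := fun _ : I => OY Y)
    (fun j => if j = i then (𝟙 (OY Y) : OY Y ⟶ OY Y) else (0 : OY Y ⟶ OY Y))

theorem ι_qF_self (i : I) : ιF (Y := Y) i ≫ qF i = 𝟙 _ :=
  (Limits.Sigma.ι_desc (f := fun _ : I => OY Y) _ i).trans (if_pos rfl)

theorem ι_qF_ne {i j : I} (h : j ≠ i) : ιF (Y := Y) j ≫ qF i = 0 :=
  (Limits.Sigma.ι_desc (f := fun _ : I => OY Y) _ j).trans (if_neg h)

theorem sum_qF_ι : ∑ i : I, qF (Y := Y) i ≫ ιF i = 𝟙 (FreeI Y I) := by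
  refine Limits.Sigma.hom_ext (f := fun _ : I => OY Y) _ _ (fun j => ?_)
  change ιF j ≫ ∑ i : I, qF (Y := Y) i ≫ ιF i = ιF j ≫ 𝟙 (FreeI Y I)
  rw [Preadditive.comp_sum, Category.comp_id]
  rw [Finset.sum_eq_single j]
  · rw [← Category.assoc, ι_qF_self, Category.id_comp]
  · intro i _ hij
    rw [← Category.assoc, ι_qF_ne hij.symm, zero_comp]
  · intro h
    exact (h (Finset.mem_univ j)).elim

/-- the coordinates of a section of the finite free module -/
noncomputable def coord (V : Y.Opens) (n : Γ(FreeI Y I, V)) (i : I) : Γ(Y, V) :=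
  Scheme.Modules.Hom.app (qF i) V n

/-- the section of the finite free module with given coordinates -/
noncomputable def ofCoord (V : Y.Opens) (a : I → Γ(Y, V)) : Γ(FreeI Y I, V) :=
  ∑ i, Scheme.Modules.Hom.app (ιF (Y := Y) i) V (a i)

theorem ofCoord_coord (V : Y.Opens) (n : Γ(FreeI Y I, V)) :
    ofCoord V (coord V n) = n := by
  have h := congrArg
    (fun φ : FreeI Y I ⟶ FreeI Y I => Scheme.Modules.Hom.app φ V n)
    (sum_qF_ι (Y := Y) (I := I))
  simp only at h
  rw [FinSigma.sum_app] at h
  exact h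

theorem coord_ofCoord (V : Y.Opens) (a : I → Γ(Y, V)) : coord V (ofCoord V a) = a := by
  funext j
  rw [coord, ofCoord, map_sum, Finset.sum_eq_single j]
  · have := congrArg (fun φ : OY Y ⟶ OY Y => Scheme.Modules.Hom.app φ V (a j))
      (ι_qF_self (Y := Y) j)
    exact this
  · intro i _ hij
    have := congrArg (fun φ : OY Y ⟶ OY Y => Scheme.Modules.Hom.app φ V (a i))
      (ι_qF_ne (Y := Y) hij)
    exact this
  · intro h
    exact (h (Finset.mem_univ j)).elim

/-- the morphism out of the finite free module given by global sections -/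
noncomputable def ofSec (N : Y.Modules) (s : I → Γ(N, ⊤)) : FreeI Y I ⟶ N :=
  N.freeHomEquiv.symm (fun i => GlobGen.secOfTop N (s i))

theorem ι_ofSec_app_one (N : Y.Modules) (s : I → Γ(N, ⊤)) (i : I) (V : Y.Opens) :
    Scheme.Modules.Hom.app (ιF i ≫ ofSec N s) V (1 : Γ(Y, V)) = res N le_top (s i) := by
  have h1 : ιF i ≫ ofSec N s = N.unitHomEquiv.symm (GlobGen.secOfTop N (s i)) := by
    have := SheafOfModules.unitHomEquiv_symm_freeHomEquiv_apply (ofSec N s) i
    rw [ofSec, Equiv.apply_symm_apply] at this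
    exact this.symm
  have h2 := congrArg (fun v => (N.unitHomEquiv v).val (op V)) h1
  simp only [Equiv.apply_symm_apply] at h2
  exact h2

theorem ι_ofSec_app (N : Y.Modules) (s : I → Γ(N, ⊤)) (i : I) (V : Y.Opens) (a : Γ(Y, V)) :
    Scheme.Modules.Hom.app (ιF i ≫ ofSec N s) V a = a • res N le_top (s i) := by
  have h1 : (a : Γ(OY Y, V)) = a • (1 : Γ(Y, V)) := (mul_one a).symm
  have h2 := Scheme.Modules.Hom.app_smul (ιF i ≫ ofSec N s) a (1 : Γ(Y, V))
  rw [ι_ofSec_app_one] at h2
  rw [← h2]
  congr 1

/-- **sections of a morphism out of a finite free module** -/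
theorem ofSec_app (N : Y.Modules) (s : I → Γ(N, ⊤)) (V : Y.Opens) (n : Γ(FreeI Y I, V)) :
    Scheme.Modules.Hom.app (ofSec N s) V n = ∑ i, coord V n i • res N le_top (s i) := by
  conv_lhs => rw [← ofCoord_coord V n]
  rw [ofCoord, map_sum]
  refine Finset.sum_congr rfl fun i _ => ?_
  exact ι_ofSec_app N s i V (coord V n i)

end Groth.Agent.Lib.Helper5.GenIso
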