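import Mathlib
import Groth.Prelude.Def_Coh
import Groth.Agent.Lib.Helper5.GenIso.Stalk
import Groth.Agent.Lib.Helper5.GenIso.Alg
import Groth.Agent.Lib.Helper5.GenIso.FreeSec
import Groth.Agent.Lib.Helper5.RHomQC.PerfO
import Groth.Agent.Lib.Helper1.PushQc
import Groth.Agent.Lib.Helper1.QcAbel
import Groth.Agent.Lib.Helper1.FtLocal
import Groth.Agent.Lib.Lead.FLF6

/-!
# A generically bijective map `O_Y^r ⟶ f_* M` for a finite surjective morphism (helper5)
-/
set_option autoImplicit false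
set_option backward.isDefEq.respectTransparency.types false
set_option linter.unusedSectionVars false
set_option linter.unusedVariables false
set_option linter.style.haveILetI false
universe u
open CategoryTheory CategoryTheory.Limits Opposite TopologicalSpace AlgebraicGeometry

namespace Groth.Agent.Lib.Helper5.GenIso

open Groth.Agent.Helper1 Groth.Agent.Helper1.QcCech

variable {X Y : Scheme.{u}}

/-- a quotient of a finite free module is of finite type -/
theorem isFT_of_epi_free {I : Type u} [Finite I] {M : X.Modules} (p : FreeI X I ⟶ M)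
    [hp : Epi p] : SheafOfModules.IsFiniteType.{u, u, u} (R := X.ringCatSheaf) M := by
  have hepi : Epi (C := SheafOfModules.{u} X.ringCatSheaf) p := hp
  let G : SheafOfModules.GeneratingSections M :=
    (SheafOfModules.free.generatingSections I).ofEpi p
  haveI : G.IsFiniteType := ⟨inferInstanceAs (Finite I)⟩
  have hσ : G.localGeneratorsData.IsFiniteType := by
    constructor
    intro x
    constructor
    change Finite I
    infer_instance
  constructor
  exact ⟨G.localGeneratorsData, hσ⟩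

/-- for a surjective morphism to a reduced scheme the maps on sections are injective -/
theorem app_injective_of_surjective (f : X ⟶ Y) [Surjective f] [IsReduced Y] (V : Y.Opens) :
    Function.Injective (f.app V).hom := by
  rw [injective_iff_map_eq_zero]
  intro a ha
  have h1 : f ⁻¹ᵁ Y.basicOpen a = X.basicOpen ((f.app V).hom a) := Scheme.preimage_basicOpen f a
  rw [ha, Scheme.basicOpen_zero] at h1
  have h2 : Y.basicOpen a = ⊥ := by
    ext y
    simp only [Opens.coe_bot, Set.mem_empty_iff_false, iff_false]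
    intro hy
    obtain ⟨x, rfl⟩ := f.surjective y
    have : x ∈ f ⁻¹ᵁ Y.basicOpen a := hy
    rw [h1] at this
    exact this
  exact (AlgebraicGeometry.basicOpen_eq_bot_iff a).1 h2


section Construction

variable (f : X ⟶ Y) (V : Y.Opens)

/-- the module `j_* O_U` for `U = f⁻¹ V` -/
noncomputable def Pmod : X.Modules :=
  (Scheme.Modules.pushforward (f ⁻¹ᵁ V).ι).obj (OY ((f ⁻¹ᵁ V : X.Opens) : Scheme.{u}))

/-- the ring of sections of `j_* O_U` over `U` -/
abbrev Bring : Type u :=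
  Γ(((f ⁻¹ᵁ V : X.Opens) : Scheme.{u}), (f ⁻¹ᵁ V).ι ⁻¹ᵁ (f ⁻¹ᵁ V))

/-- the ring map `Γ(Y, V) ⟶ B` -/
noncomputable def psi : Γ(Y, V) →+* Bring f V :=
  ((f ⁻¹ᵁ V).ι.app (f ⁻¹ᵁ V)).hom.comp (f.app V).hom

theorem le_aux : (f ⁻¹ᵁ V).ι ⁻¹ᵁ ⊤ ≤ (f ⁻¹ᵁ V).ι ⁻¹ᵁ (f ⁻¹ᵁ V) :=
  le_top.trans (Scheme.Opens.ι_preimage_self (f ⁻¹ᵁ V)).ge

/-- the global section of `j_* O_U` attached to a function on `U` -/
noncomputable def eps (b : Bring f V) : Γ(Pmod f V, ⊤) :=
  res (OY ((f ⁻¹ᵁ V : X.Opens) : Scheme.{u})) (le_aux f V) b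

theorem res_eps (b : Bring f V) :
    (show Bring f V from res (Pmod f V) (le_top : f ⁻¹ᵁ V ≤ ⊤) (eps f V b)) = b := by
  have h : (f ⁻¹ᵁ V).ι ⁻¹ᵁ (f ⁻¹ᵁ V) ≤ (f ⁻¹ᵁ V).ι ⁻¹ᵁ ⊤ := le_top
  have h1 : res (Pmod f V) (le_top : f ⁻¹ᵁ V ≤ ⊤) (eps f V b) =
      res (OY ((f ⁻¹ᵁ V : X.Opens) : Scheme.{u})) h
        (res (OY ((f ⁻¹ᵁ V : X.Opens) : Scheme.{u})) (le_aux f V) b) := rfl
  rw [h1, res_res]
  exact res_self (OY ((f ⁻¹ᵁ V : X.Opens) : Scheme.{u})) _
    (show Γ(OY ((f ⁻¹ᵁ V : X.Opens) : Scheme.{u}), (f ⁻¹ᵁ V).ι ⁻¹ᵁ (f ⁻¹ᵁ V)) from b)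

theorem app_smul_P {M : X.Modules} (ι : M ⟶ Pmod f V) (a : Γ(Y, V))
    (m : Γ((Scheme.Modules.pushforward f).obj M, V)) :
    (show Bring f V from ι.app (f ⁻¹ᵁ V) (a • m)) =
      psi f V a * (show Bring f V from ι.app (f ⁻¹ᵁ V) (show Γ(M, f ⁻¹ᵁ V) from m)) := by
  have h1 : a • m = (f.app V).hom a • (show Γ(M, f ⁻¹ᵁ V) from m) := rfl
  rw [h1, Scheme.Modules.Hom.app_smul]
  rfl


theorem genericPoint_mem_basicOpen [IsIntegral Y] {V : Y.Opens} (a : Γ(Y, V)) (ha : a ≠ 0) :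
    genericPoint Y ∈ Y.basicOpen a := by
  have hne : Y.basicOpen a ≠ ⊥ := fun h => ha ((AlgebraicGeometry.basicOpen_eq_bot_iff a).1 h)
  have hne' : (Y.basicOpen a : Set Y).Nonempty := by
    rw [Set.nonempty_iff_ne_empty]
    intro h
    apply hne
    ext y
    simp [h]
  exact ((genericPoint_spec Y).mem_open_set_iff (Y.basicOpen a).2).2
    (by rwa [Set.univ_inter])


end Construction

/-- **finite surjective morphisms of integral Noetherian schemes: a generically bijective map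
`O_Y^r ⟶ f_* M` with `M` coherent** -/
theorem exists_generic_iso [IsIntegral Y] [IsNoetherian Y] [IsNoetherian X] (f : X ⟶ Y)
    [IsFinite f] [Surjective f] :
    ∃ (r : ℕ) (M : X.Modules)
      (α : (SheafOfModules.free (ULift.{u} (Fin r)) : Y.Modules) ⟶
        (Scheme.Modules.pushforward f).obj M),
      0 < r ∧ Coh.IsCoh M ∧
      IsIso ((TopCat.Presheaf.stalkFunctor AddCommGrpCat.{u} (genericPoint ↥Y)).map
        ((SheafOfModules.toSheaf Y.ringCatSheaf).map α).hom) := by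
  classical
  obtain ⟨V, hV, hηV⟩ : ∃ V : Y.Opens, IsAffineOpen V ∧ genericPoint Y ∈ V := by
    obtain ⟨_, ⟨V, hV, rfl⟩, hx, -⟩ := Y.isBasis_affineOpens.exists_subset_of_mem_open
      (Set.mem_univ (genericPoint Y)) isOpen_univ
    exact ⟨V, hV, hx⟩
  haveI : Nonempty V := ⟨⟨_, hηV⟩⟩
  have hU : IsAffineOpen (f ⁻¹ᵁ V) := hV.preimage f
  -- algebra
  letI : Algebra Γ(Y, V) (Bring f V) := (psi f V).toAlgebra
  haveI : IsNoetherianRing Γ(Y, V) := IsLocallyNoetherian.component_noetherian ⟨V, hV⟩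
  have hjbij : Function.Bijective ((f ⁻¹ᵁ V).ι.app (f ⁻¹ᵁ V)).hom := by
    have : IsIso ((f ⁻¹ᵁ V).ι.app (f ⁻¹ᵁ V)) := by
      rw [Scheme.Opens.ι_app_self]
      haveI : IsIso (eqToHom (X := (f ⁻¹ᵁ V).ι ''ᵁ ((f ⁻¹ᵁ V).ι ⁻¹ᵁ (f ⁻¹ᵁ V))) (Y := f ⁻¹ᵁ V)
        (by simp)).op := inferInstance
      exact Functor.map_isIso X.presheaf _
    exact ConcreteCategory.bijective_of_isIso _
  have hfin : Module.Finite Γ(Y, V) (Bring f V) := by
    have h1 : (f.app V).hom.Finite := f.finite_app V hV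
    have h2 : ((f ⁻¹ᵁ V).ι.app (f ⁻¹ᵁ V)).hom.Finite := RingHom.Finite.of_surjective _ hjbij.2
    exact h2.comp h1
  have hinj : Function.Injective (algebraMap Γ(Y, V) (Bring f V)) :=
    hjbij.1.comp (app_injective_of_surjective f V)
  obtain ⟨r, e, hr, hli, hspan⟩ := exists_indep_family Γ(Y, V) (Bring f V) hinj
  -- the module `M`
  haveI : (OY ((f ⁻¹ᵁ V : X.Opens) : Scheme.{u})).IsQuasicoherent :=
    Groth.Agent.Lead.FLF.isQuasicoherent_of_isFinLocFree _
      (Groth.Agent.Lib.Helper5.RHomQC.isFinLocFree_structureModule _)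
  haveI hPq : (Pmod f V).IsQuasicoherent :=
    PushQc.isQuasicoherent_pushforward (f ⁻¹ᵁ V).ι (OY ((f ⁻¹ᵁ V : X.Opens) : Scheme.{u}))
  set u : FreeI X (ULift.{u} (Fin r)) ⟶ Pmod f V :=
    ofSec (Pmod f V) (fun i => eps f V (e i.down)) with hu
  haveI hMq : (Abelian.image u).IsQuasicoherent := QcAbel.isQuasicoherent_image u
  have hMft : SheafOfModules.IsFiniteType.{u, u, u} (R := X.ringCatSheaf) (Abelian.image u) :=
    @isFT_of_epi_free X _ _ _ (Abelian.factorThruImage u)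
      (inferInstanceAs (Epi (C := X.Modules) (Abelian.factorThruImage u)))
  -- the sections `e'`
  let e' : ULift.{u} (Fin r) → Γ(Abelian.image u, ⊤) := fun i =>
    (Abelian.factorThruImage u).app ⊤ ((ιF (Y := X) i).app ⊤ (1 : Γ(X, ⊤)))
  have he' : ∀ i, (Abelian.image.ι u).app ⊤ (e' i) = eps f V (e i.down) := by
    intro i
    have h1 : (Abelian.image.ι u).app ⊤ (e' i) =
        (ιF (Y := X) i ≫ u).app ⊤ (1 : Γ(X, ⊤)) := by
      have h2 : ιF (Y := X) i ≫ u =
          ιF (Y := X) i ≫ Abelian.factorThruImage u ≫ Abelian.image.ι u := by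
        rw [Abelian.image.fac]
      rw [h2]
      rfl
    rw [h1, hu, ι_ofSec_app_one]
    exact res_self _ _ _
  refine ⟨r, Abelian.image u,
    ofSec ((Scheme.Modules.pushforward f).obj (Abelian.image u)) (fun i => e' i), hr,
    ⟨hMq, hMft⟩, ?_⟩
  set N₂ : Y.Modules := (Scheme.Modules.pushforward f).obj (Abelian.image u) with hN₂
  haveI hN₂q : N₂.IsQuasicoherent := PushQc.isQuasicoherent_pushforward f (Abelian.image u)
  -- the comparison map to `B`
  let lam : Γ(N₂, V) → Bring f V := fun m =>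
    (Abelian.image.ι u).app (f ⁻¹ᵁ V) (show Γ(Abelian.image u, f ⁻¹ᵁ V) from m)
  have hlam_inj : Function.Injective lam :=
    FtLocal.app_injective_of_mono (Abelian.image.ι u) (f ⁻¹ᵁ V)
  have hlam_add : ∀ m m' : Γ(N₂, V), lam (m + m') = lam m + lam m' := fun m m' =>
    map_add ((Abelian.image.ι u).app (f ⁻¹ᵁ V)).hom _ _
  have hlam_zero : lam 0 = 0 := map_zero ((Abelian.image.ι u).app (f ⁻¹ᵁ V)).hom
  have hlam_smul : ∀ (a : Γ(Y, V)) (m : Γ(N₂, V)), lam (a • m) = a • lam m := fun a m =>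
    app_smul_P f V (Abelian.image.ι u) a m
  have hlam_e' : ∀ i, lam (res N₂ le_top (e' i)) = e i.down := by
    intro i
    have h1 : lam (res N₂ le_top (e' i)) =
        (Abelian.image.ι u).app (f ⁻¹ᵁ V)
          (res (Abelian.image u) (le_top : f ⁻¹ᵁ V ≤ ⊤) (e' i)) := rfl
    rw [h1, QcExt.app_res, he']
    exact res_eps f V (e i.down)
  have hlam_sum : ∀ (s : Finset (ULift.{u} (Fin r))) (g : ULift.{u} (Fin r) → Γ(N₂, V)),
      lam (∑ i ∈ s, g i) = ∑ i ∈ s, lam (g i) := by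
    intro s g
    induction s using Finset.induction_on with
    | empty => simpa using hlam_zero
    | insert a s ha ih => rw [Finset.sum_insert ha, Finset.sum_insert ha, hlam_add, ih]
  have hkey : ∀ c : ULift.{u} (Fin r) → Γ(Y, V),
      lam (∑ i, c i • res N₂ le_top (e' i)) = ∑ k : Fin r, c ⟨k⟩ • e k := by
    intro c
    rw [hlam_sum]
    rw [← Equiv.sum_comp Equiv.ulift.symm]
    refine Finset.sum_congr rfl fun k _ => ?_
    rw [hlam_smul, hlam_e']
    rfl
  refine isIso_stalk_map _ hV (genericPoint Y) hηV ?_ ?_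
  · intro n hn
    refine ⟨1, genericPoint_mem_basicOpen 1 one_ne_zero, ?_⟩
    rw [one_smul]
    rw [ofSec_app] at hn
    have h1 := congrArg lam hn
    rw [hkey, hlam_zero] at h1
    have h2 := Fintype.linearIndependent_iff.1 hli (fun k => coord V n ⟨k⟩) h1
    have h3 : coord V n = 0 := by
      funext i
      exact h2 i.down
    rw [← ofCoord_coord V n, h3]
    exact Finset.sum_eq_zero (fun i _ => map_zero _)
  · intro m
    obtain ⟨a, ha, hmem⟩ := hspan (lam m)
    obtain ⟨c, hc⟩ := (Submodule.mem_span_range_iff_exists_fun _).1 hmem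
    refine ⟨a, ofCoord V (fun i => c i.down), genericPoint_mem_basicOpen a ha, ?_⟩
    apply hlam_inj
    rw [ofSec_app, hkey, coord_ofCoord, hlam_smul, ← hc]

end Groth.Agent.Lib.Helper5.GenIso
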