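import Mathlib
import Groth.Agent.Lib.Helper5.GenIso.Main
import Groth.Agent.Lib.Helper5.GenIso.IsoNbhd
import Groth.Agent.Lib.Helper5.FBC.PiAff
import Groth.Agent.Lib.Helper5.RestrTen.RestrTenS
import Groth.Agent.Lib.Helper5.KFlatSite2.Symm
import Groth.Agent.Lib.Helper5.LTen.Flf
import Groth.Agent.Lib.Helper5.Misc.KFlatSite
import Groth.Agent.Lib.Helper5.QC.CoprodQC
import Groth.Agent.Lib.Helper5.Perf.PCSingle
import Groth.Agent.Lib.Helper5.Perf.LocalCoh
import Groth.Agent.Lib.Helper1.Dv6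
import Groth.Agent.Lib.Helper1.Dv12
import Groth.Agent.Lib.Helper1.Dv4
import Groth.Agent.Lib.Helper1.Dv5
import Groth.Agent.Lib.Helper1.FinPush
import Groth.Agent.Lib.Helper1.SerreAmple1
import Groth.Agent.Lib.Lead.PBQc

/-!
# Finite surjective morphisms: a generically bijective map `f_* G ⟶ F^r` (helper5)

From the generically bijective `α : O_Y^r ⟶ f_* M` one gets `α ⊗ F : F^r ⟶ f_* M ⊗ F`, an
isomorphism over an open `V`; Deligne's formula extends its inverse over `V` to a map
`I^n (f_* M ⊗ F) ⟶ F^r`, and `I^n (f_* M ⊗ F) ≅ f_* (J^n (M ⊗ f^* F))` by the projection formula.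
-/
set_option autoImplicit false
set_option linter.unusedSectionVars false
set_option linter.unusedVariables false
universe u
open CategoryTheory CategoryTheory.Limits Opposite TopologicalSpace AlgebraicGeometry
open Groth.Agent.Helper1 Groth.Agent.Helper1.QcCech

namespace Groth.Agent.Lib.Helper5.GenIso

variable {X Y : Scheme.{u}}

/-- `O^I ⊗ F ≅ ∐_I F` -/
noncomputable def freeTensorIso (I : Type u) (F : Y.Modules) :
    (DCoh.tensorBi.obj (SheafOfModules.free I : Y.Modules)).obj F ≅ ∐ fun _ : I => F :=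
  haveI : PreservesColimitsOfSize.{u, u} (DCoh.tensorBi.obj F) :=
    Groth.Agent.Lib.Helper5.Misc.KFlatSite.preservesColimits_tensorBi_obj Y.sheaf F
  ((Groth.Agent.Lib.Helper5.KFlatSiteQ.flipIso Y.sheaf).app F).app
      (SheafOfModules.free I : Y.Modules) ≪≫
    PreservesCoproduct.iso (DCoh.tensorBi.obj F) (fun _ : I => Coh.structureModule Y) ≪≫
    Sigma.mapIso (fun _ => Groth.Agent.Lib.Helper5.LTenFlf.tensorUnitIso F)

/-- tensoring a morphism which is an isomorphism over `V` gives an isomorphism over `V` -/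
theorem isIso_restrict_tensor_map {N₁ N₂ : Y.Modules} (α : N₁ ⟶ N₂) (F : Y.Modules)
    (V : Y.Opens) [IsIso ((Scheme.Modules.restrictFunctor V.ι).map α)] :
    IsIso ((Scheme.Modules.restrictFunctor V.ι).map ((DCoh.tensorBi.map α).app F)) := by
  have h := Groth.Agent.Lib.Helper5.RestrTen.restrictTensorIso_naturality_left V.ι α F
  haveI : IsIso ((DCoh.tensorBi.map ((Scheme.Modules.restrictFunctor V.ι).map α)).app
      ((Scheme.Modules.restrictFunctor V.ι).obj F)) := inferInstance
  have h2 : (Scheme.Modules.restrictFunctor V.ι).map ((DCoh.tensorBi.map α).app F) =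
      (Groth.Agent.Lib.Helper5.RestrTen.restrictTensorIso V.ι N₁ F).hom ≫
        (DCoh.tensorBi.map ((Scheme.Modules.restrictFunctor V.ι).map α)).app
          ((Scheme.Modules.restrictFunctor V.ι).obj F) ≫
        (Groth.Agent.Lib.Helper5.RestrTen.restrictTensorIso V.ι N₂ F).inv := by
    rw [← Category.assoc, ← h, Category.assoc, Iso.hom_inv_id, Category.comp_id]
  rw [h2]
  infer_instance

/-- a morphism of quasi-coherent modules which is an isomorphism over an open `V` is bijective on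
the stalks at the points of `V` -/
theorem isIso_stalk_of_isIso_restrict {N₁ N₂ : Y.Modules} [N₁.IsQuasicoherent]
    [N₂.IsQuasicoherent] (ψ : N₁ ⟶ N₂) (V : Y.Opens) (x : Y) (hx : x ∈ V)
    [IsIso ((Scheme.Modules.restrictFunctor V.ι).map ψ)] :
    IsIso ((TopCat.Presheaf.stalkFunctor AddCommGrpCat.{u} x).map
      ((SheafOfModules.toSheaf Y.ringCatSheaf).map ψ).hom) := by
  obtain ⟨W, hW, hxW, hWV⟩ :=
    TopologicalSpace.Opens.isBasis_iff_nbhd.mp Y.isBasis_affineOpens hx
  have hb := Dv.app_bijective_of_restrict_isIso ψ V W hWV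
  have h1 : x ∈ Y.basicOpen (1 : Γ(Y, W)) := by
    rw [Scheme.basicOpen_of_isUnit Y isUnit_one]
    exact hxW
  refine isIso_stalk_map ψ hW x hxW ?_ ?_
  · intro n hn
    refine ⟨1, h1, ?_⟩
    rw [one_smul]
    apply hb.1
    rw [hn, map_zero]
  · intro m
    obtain ⟨n, hn⟩ := hb.2 m
    exact ⟨1, n, h1, by rw [one_smul]; exact hn⟩

/-- the stalk functor on modules with values in abelian groups -/
noncomputable abbrev stalkAb (x : Y) : Y.Modules ⥤ AddCommGrpCat.{u} :=
  SheafOfModules.toSheaf Y.ringCatSheaf ⋙ sheafToPresheaf _ _ ⋙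
    TopCat.Presheaf.stalkFunctor AddCommGrpCat.{u} x

/-- **finite surjective morphisms of integral Noetherian schemes: a generically bijective map
`f_* G ⟶ F^r` with `G` coherent** -/
theorem exists_generic_iso_dual [IsIntegral X] [IsNoetherian X] [IsIntegral Y] [IsNoetherian Y]
    (f : X ⟶ Y) [IsFinite f] [Surjective f] (F : Y.Modules) (hF : Coh.IsCoh F) :
    ∃ (r : ℕ) (G : X.Modules)
      (β : (Scheme.Modules.pushforward f).obj G ⟶ ∐ fun _ : ULift.{u} (Fin r) => F),
      0 < r ∧ Coh.IsCoh G ∧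
      IsIso ((TopCat.Presheaf.stalkFunctor AddCommGrpCat.{u} (genericPoint ↥Y)).map
        ((SheafOfModules.toSheaf Y.ringCatSheaf).map β).hom) := by
  obtain ⟨r, M, α, hr, hM, hα⟩ := exists_generic_iso f
  haveI : M.IsQuasicoherent := hM.1
  haveI : F.IsQuasicoherent := hF.1
  have hfM : Coh.IsCoh ((Scheme.Modules.pushforward f).obj M) :=
    FinPush.isCoh_pushforward f M hM
  have hfree : Coh.IsCoh (SheafOfModules.free (ULift.{u} (Fin r)) : Y.Modules) :=
    Groth.Agent.Lib.Helper5.LocalCoh.isCoh_of_isFinLocFree _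
      (Groth.Agent.Lib.Helper5.PCSingle.isFinLocFree_free Y (ULift.{u} (Fin r)))
  obtain ⟨V, hηV, hαV⟩ := exists_open_isIso hfree hfM α (genericPoint ↥Y) hα
  haveI := hαV
  -- the tensor product with `F`
  set H : Y.Modules := (DCoh.tensorBi.obj ((Scheme.Modules.pushforward f).obj M)).obj F with hHdef
  set T : Y.Modules := ∐ fun _ : ULift.{u} (Fin r) => F with hTdef
  have hH : Coh.IsCoh H := SerreAmple.isCoh_tensor _ _ hfM hF
  haveI : H.IsQuasicoherent := hH.1
  have hT : Coh.IsQCoh T :=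
    Groth.Agent.Lib.Helper5.QC.isQuasicoherent_sigma (fun _ : ULift.{u} (Fin r) => F)
      (fun _ => hF.1)
  haveI : T.IsQuasicoherent := hT
  haveI hia : IsIso ((Scheme.Modules.restrictFunctor V.ι).map ((DCoh.tensorBi.map α).app F)) :=
    isIso_restrict_tensor_map α F V
  let φ : (Scheme.Modules.restrictFunctor V.ι).obj H ⟶ (Scheme.Modules.restrictFunctor V.ι).obj T :=
    inv ((Scheme.Modules.restrictFunctor V.ι).map ((DCoh.tensorBi.map α).app F)) ≫
      (Scheme.Modules.restrictFunctor V.ι).map (freeTensorIso (ULift.{u} (Fin r)) F).hom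
  haveI : IsIso φ := inferInstance
  obtain ⟨n, ψ, hψ⟩ := Dv.deligne_surjective T H hT hH (Dv.complIdeal V) V
    (Dv.complIdeal_support V) φ
  -- the module `G`
  set P : X.Modules := (DCoh.tensorBi.obj M).obj ((Scheme.Modules.pullback f).obj F) with hPdef
  have hpF : Coh.IsCoh ((Scheme.Modules.pullback f).obj F) :=
    ⟨Groth.Agent.Lead.PB.isQuasicoherent_pullback f F, Groth.Agent.Lead.PB.isFT_pullback f F hF.2⟩
  have hP : Coh.IsCoh P := SerreAmple.isCoh_tensor _ _ hM hpF
  haveI : IsIso (Groth.Agent.Lib.Helper5.ProjF.piMap f M F) :=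
    Groth.Agent.Lib.Helper5.FBC.isIso_piMap_of_isAffineHom f M F
  obtain ⟨e, -⟩ := Dv.idealMul_pushforward f P hP.1 (Dv.complIdeal V ^ n)
  let γ : (Scheme.Modules.pushforward f).obj
      ((Dual3.idealMul ((Dv.complIdeal V ^ n).comap f)).obj P) ≅
      (Dual3.idealMul (Dv.complIdeal V ^ n)).obj H :=
    e.symm ≪≫ (Dual3.idealMul (Dv.complIdeal V ^ n)).mapIso
      (asIso (Groth.Agent.Lib.Helper5.ProjF.piMap f M F)).symm
  refine ⟨r, (Dual3.idealMul ((Dv.complIdeal V ^ n).comap f)).obj P, γ.hom ≫ ψ, hr,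
    Dv.isCoh_idealMul _ P hP, ?_⟩
  -- the stalk at the generic point
  haveI : IsIso ((Scheme.Modules.restrictFunctor V.ι).map ψ) := by
    rw [hψ]
    haveI := Dv.isIso_restrict_idealMulι V n H
    infer_instance
  have h1 : IsIso ((stalkAb (genericPoint ↥Y)).map ψ) :=
    isIso_stalk_of_isIso_restrict ψ V (genericPoint ↥Y) hηV
  change IsIso ((stalkAb (genericPoint ↥Y)).map (γ.hom ≫ ψ))
  rw [Functor.map_comp]
  infer_instance

end Groth.Agent.Lib.Helper5.GenIso
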